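import Mathlib
import Groth.Prelude.Def_LefPen

open MvPolynomial

namespace Groth.Agent.H5.LefT
universe u
variable {k : Type u} [Field k] {r : ℕ}

abbrev Vec (k : Type u) (r : ℕ) := Fin (r + 1) → k
abbrev Pol (k : Type u) [Field k] (r : ℕ) := MvPolynomial (Fin (r + 1)) k

/-- the differential of `F` at `v` as a linear form, linear in `F` -/
noncomputable def DD (v : Vec k r) : Pol k r →ₗ[k] (Vec k r →ₗ[k] k) :=
  ∑ i, LinearMap.smulRight ((aeval v).toLinearMap ∘ₗ (pderiv i).toLinearMap)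
    (LinearMap.proj i : Vec k r →ₗ[k] k)

theorem DD_apply (v u : Vec k r) (F : Pol k r) :
    DD v F u = ∑ i, aeval v (pderiv i F) * u i := by
  simp [DD, LinearMap.sum_apply]

theorem DD_mul (v u : Vec k r) (F G : Pol k r) :
    DD v (F * G) u = DD v F u * aeval v G + aeval v F * DD v G u := by
  simp only [DD_apply, Derivation.leibniz, smul_eq_mul, map_add, map_mul]
  rw [Finset.sum_mul, Finset.mul_sum, ← Finset.sum_add_distrib]
  refine Finset.sum_congr rfl fun i _ => ?_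
  ring

theorem DD_pow (v u : Vec k r) (F : Pol k r) (n : ℕ) :
    DD v (F ^ n) u = n * (aeval v F) ^ (n - 1) * DD v F u := by
  simp only [DD_apply, Derivation.leibniz_pow, smul_eq_mul, map_mul, map_pow, nsmul_eq_mul,
    map_natCast]
  rw [Finset.mul_sum]
  refine Finset.sum_congr rfl fun i _ => ?_
  ring

/-- the polynomial of a linear form -/
noncomputable def L (l : Vec k r →ₗ[k] k) : Pol k r := ∑ i, C (l (Pi.single i 1)) * X i

theorem lin_apply (l : Vec k r →ₗ[k] k) (v : Vec k r) : l v = ∑ i, l (Pi.single i 1) * v i := by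
  conv_lhs => rw [← Finset.univ_sum_single v, map_sum]
  refine Finset.sum_congr rfl fun i _ => ?_
  have : (Pi.single i (v i) : Vec k r) = v i • Pi.single i 1 := by
    rw [← Pi.single_smul, smul_eq_mul, mul_one]
  rw [this, map_smul, smul_eq_mul, mul_comm]

@[simp] theorem aeval_L (l : Vec k r →ₗ[k] k) (v : Vec k r) : aeval v (L l) = l v := by
  rw [lin_apply l v, L, map_sum]
  simp

theorem pderiv_L (l : Vec k r →ₗ[k] k) (j : Fin (r + 1)) :
    pderiv j (L l) = C (l (Pi.single j 1)) := by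
  classical
  rw [L, map_sum]
  simp only [Derivation.leibniz, pderiv_C, pderiv_X, smul_zero, add_zero, smul_eq_mul]
  rw [Finset.sum_eq_single j]
  · simp
  · intro i _ hij
    simp [Pi.single_apply, hij]
  · intro h; exact absurd (Finset.mem_univ j) h

@[simp] theorem DD_L (l : Vec k r →ₗ[k] k) (v u : Vec k r) : DD v (L l) u = l u := by
  rw [DD_apply, lin_apply l u]
  simp [pderiv_L]

theorem L_homog (l : Vec k r →ₗ[k] k) : (L l).IsHomogeneous 1 := by
  rw [L]
  exact IsHomogeneous.sum _ _ _ fun i _ => isHomogeneous_C_mul_X _ _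

theorem L_sub (l l' : Vec k r →ₗ[k] k) : L (l - l') = L l - L l' := by
  simp [L, Finset.sum_sub_distrib, sub_mul]

/-- Euler's identity -/
theorem DD_self (v : Vec k r) (F : Pol k r) (d : ℕ) (hF : F.IsHomogeneous d) :
    DD v F v = d * aeval v F := by
  have h := congrArg (aeval v) hF.sum_X_mul_pderiv
  rw [map_sum] at h
  simp only [map_mul, aeval_X, nsmul_eq_mul, map_natCast] at h
  rw [DD_apply, ← h]
  refine Finset.sum_congr rfl fun i _ => ?_
  ring

theorem pderiv_comm (i j : Fin (r + 1)) (F : Pol k r) :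
    pderiv i (pderiv j F) = pderiv j (pderiv i F) := by
  classical
  induction F using MvPolynomial.induction_on with
  | C a => simp
  | add p q hp hq => simp [hp, hq]
  | mul_X p n hp =>
    simp only [Derivation.leibniz, pderiv_X, smul_eq_mul, map_add, hp]
    simp only [Pi.single_apply]
    split_ifs <;> simp <;> ring

/-- symmetry of the differential of a quadratic form -/
theorem DD_symm (x y : Vec k r) (F : Pol k r) (hF : F.IsHomogeneous 2) :
    DD x F y = DD y F x := by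
  have h1 : ∀ i, (pderiv i F).IsHomogeneous 1 := fun i => hF.pderiv
  have h0 : ∀ i j, (pderiv j (pderiv i F)).IsHomogeneous 0 := fun i j => (h1 i).pderiv
  have hc : ∀ i j, pderiv j (pderiv i F) = C (coeff 0 (pderiv j (pderiv i F))) := by
    intro i j
    have := h0 i j
    rw [← totalDegree_zero_iff_isHomogeneous, totalDegree_eq_zero_iff_eq_C] at this
    exact this
  have hE : ∀ (i : Fin (r + 1)) (z : Vec k r),
      aeval z (pderiv i F) = ∑ j, z j * coeff 0 (pderiv j (pderiv i F)) := by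
    intro i z
    have h := congrArg (aeval z) (h1 i).sum_X_mul_pderiv
    rw [map_sum, one_smul] at h
    rw [← h]
    refine Finset.sum_congr rfl fun j _ => ?_
    rw [map_mul, aeval_X]
    conv_lhs => rw [hc i j]
    simp
  rw [DD_apply, DD_apply]
  simp only [hE, Finset.sum_mul]
  rw [Finset.sum_comm]
  refine Finset.sum_congr rfl fun i _ => Finset.sum_congr rfl fun j _ => ?_
  rw [pderiv_comm]
  ring

theorem exists_dual (p : Submodule k (Vec k r)) (v : Vec k r) (hv : v ∉ p) :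
    ∃ l : Vec k r →ₗ[k] k, l v = 1 ∧ ∀ u ∈ p, l u = 0 := by
  obtain ⟨g, hg, hgv⟩ := LinearMap.exists_extend_of_notMem (0 : p →ₗ[k] k) hv 1
  refine ⟨g, hgv, fun u hu => ?_⟩
  have := LinearMap.congr_fun hg ⟨u, hu⟩
  simpa using this

/-- construction for `d ≥ 3` -/
theorem construct3 (e : ℕ) (v₁ v₂ : Vec k r) (l₁ l₂ m₁ m₂ : Vec k r →ₗ[k] k) (a b : k)
    (h11 : l₁ v₁ = 1) (h12 : l₁ v₂ = 0) (h21 : l₂ v₁ = 0) (h22 : l₂ v₂ = 1)
    (hm1 : m₁ v₁ = ((e + 3 : ℕ) : k) * a) (hm2 : m₂ v₂ = ((e + 3 : ℕ) : k) * b) :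
    ∃ G : Pol k r, G.IsHomogeneous (e + 3) ∧ aeval v₁ G = a ∧ (∀ u, DD v₁ G u = m₁ u) ∧
      aeval v₂ G = b ∧ (∀ u, DD v₂ G u = m₂ u) := by
  set α : Vec k r →ₗ[k] k := m₁ - (((e + 2 : ℕ) : k) * a) • l₁ with hα
  set β : Vec k r →ₗ[k] k := m₂ - (((e + 2 : ℕ) : k) * b) • l₂ with hβ
  refine ⟨L l₁ ^ (e + 2) * L α + L l₂ ^ (e + 2) * L β, ?_, ?_, ?_, ?_, ?_⟩
  · have h1 := ((L_homog l₁).pow (e + 2)).mul (L_homog α)
    have h2 := ((L_homog l₂).pow (e + 2)).mul (L_homog β)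
    have : 1 * (e + 2) + 1 = e + 3 := by ring
    rw [this] at h1 h2
    exact h1.add h2
  · simp only [map_add, map_mul, map_pow, aeval_L, h11, h21, hα, hβ, LinearMap.sub_apply,
      LinearMap.smul_apply, smul_eq_mul, hm1]
    push_cast
    simp
    ring
  · intro u
    simp only [map_add, LinearMap.add_apply, DD_mul, DD_pow, DD_L, aeval_L, map_pow, h11, h21, hα,
      hβ, LinearMap.sub_apply, LinearMap.smul_apply, smul_eq_mul, hm1]
    push_cast
    simp
    ring
  · simp only [map_add, map_mul, map_pow, aeval_L, h12, h22, hα, hβ, LinearMap.sub_apply,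
      LinearMap.smul_apply, smul_eq_mul, hm2]
    push_cast
    simp
    ring
  · intro u
    simp only [map_add, LinearMap.add_apply, DD_mul, DD_pow, DD_L, aeval_L, map_pow, h12, h22, hα,
      hβ, LinearMap.sub_apply, LinearMap.smul_apply, smul_eq_mul, hm2]
    push_cast
    simp
    ring

/-- construction for `d = 2` -/
theorem construct2 (W₁ W₂ : Submodule k (Vec k r)) (v₁ v₂ : Vec k r)
    (l₁ l₂ m₁ m₂ : Vec k r →ₗ[k] k) (a b c : k)
    (h11 : l₁ v₁ = 1) (h12 : l₁ v₂ = 0) (h21 : l₂ v₁ = 0) (h22 : l₂ v₂ = 1)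
    (hm1 : m₁ v₁ = 2 * a) (hm2 : m₂ v₂ = 2 * b)
    (hW1 : ∀ u ∈ W₁, l₂ u * (m₂ v₁ - c) = 0) (hW2 : ∀ u ∈ W₂, l₁ u * (m₁ v₂ - c) = 0) :
    ∃ G : Pol k r, G.IsHomogeneous 2 ∧ aeval v₁ G = a ∧ (∀ u ∈ W₁, DD v₁ G u = m₁ u) ∧
      aeval v₂ G = b ∧ (∀ u ∈ W₂, DD v₂ G u = m₂ u) := by
  set α : Vec k r →ₗ[k] k := m₁ - a • l₁ - c • l₂ with hα
  set β : Vec k r →ₗ[k] k := m₂ - b • l₂ with hβ
  refine ⟨L l₁ * L α + L l₂ * L β, ?_, ?_, ?_, ?_, ?_⟩
  · exact ((L_homog l₁).mul (L_homog α)).add ((L_homog l₂).mul (L_homog β))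
  · simp only [map_add, map_mul, aeval_L, h11, h21, hα, hβ, LinearMap.sub_apply,
      LinearMap.smul_apply, smul_eq_mul, hm1]
    ring
  · intro u hu
    simp only [map_add, LinearMap.add_apply, DD_mul, DD_L, aeval_L, h11, h21, hα,
      hβ, LinearMap.sub_apply, LinearMap.smul_apply, smul_eq_mul, hm1]
    linear_combination hW1 u hu
  · simp only [map_add, map_mul, aeval_L, h12, h22, hα, hβ, LinearMap.sub_apply,
      LinearMap.smul_apply, smul_eq_mul, hm2]
    ring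
  · intro u hu
    simp only [map_add, LinearMap.add_apply, DD_mul, DD_L, aeval_L, h12, h22, hα,
      hβ, LinearMap.sub_apply, LinearMap.smul_apply, smul_eq_mul, hm2]
    linear_combination hW2 u hu


/-! ### the model map -/

variable (k) in
/-- `G ↦ (G(v), dG_v|_W)` -/
noncomputable def Smap (d : ℕ) (W : Submodule k (Vec k r)) (v : Vec k r) :
    LefPen.Form r k d →ₗ[k] k × Module.Dual k W :=
  LinearMap.prod ((aeval v).toLinearMap ∘ₗ (CohB1.polyGrading r k d).subtype)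
    (W.subtype.dualMap ∘ₗ DD v ∘ₗ (CohB1.polyGrading r k d).subtype)

theorem Smap_apply (d : ℕ) (W : Submodule k (Vec k r)) (v : Vec k r) (G : LefPen.Form r k d) :
    Smap k d W v G = (aeval v G.1, W.subtype.dualMap (DD v G.1)) := rfl

theorem ker_Smap (d : ℕ) (W : Submodule k (Vec k r)) (v : Vec k r) :
    LinearMap.ker (Smap k d W v) = LinearMap.ker (LefPen.tangLin k (d := d) W v) := by
  ext G
  rw [LinearMap.mem_ker, LinearMap.mem_ker, Smap_apply, Prod.mk_eq_zero]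
  have h2 : LefPen.tangLin k (d := d) W v G =
      (aeval v G.1, fun w : W => ∑ i, w.1 i * aeval v (pderiv i G.1)) := by
    refine Prod.ext rfl ?_
    funext w
    simp [LefPen.tangLin, LinearMap.sum_apply]
  rw [h2, Prod.mk_eq_zero]
  refine and_congr Iff.rfl ?_
  constructor
  · intro h
    funext w
    have := LinearMap.congr_fun h w
    simp only [LinearMap.dualMap_apply, Submodule.subtype_apply, LinearMap.zero_apply,
      DD_apply] at this
    simp only [Pi.zero_apply]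
    rw [← this]
    exact Finset.sum_congr rfl fun i _ => mul_comm _ _
  · intro h
    ext w
    have := congrFun h w
    simp only [Pi.zero_apply] at this
    simp only [LinearMap.dualMap_apply, Submodule.subtype_apply, LinearMap.zero_apply, DD_apply]
    rw [← this]
    exact Finset.sum_congr rfl fun i _ => mul_comm _ _

/-- `(a, φ) ↦ φ(v) - d a` -/
noncomputable def Lam1 (d : ℕ) (W : Submodule k (Vec k r)) (v : W) :
    k × Module.Dual k W →ₗ[k] k :=
  (Module.Dual.eval k W v).comp (LinearMap.snd k k (Module.Dual k W)) -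
    (d : k) • LinearMap.fst k k (Module.Dual k W)

@[simp] theorem Lam1_apply (d : ℕ) (W : Submodule k (Vec k r)) (v : W) (a : k)
    (φ : Module.Dual k W) : Lam1 d W v (a, φ) = φ v - d * a := by
  simp [Lam1]

theorem finrank_ker_of_surjective {Z T : Type*} [AddCommGroup Z] [Module k Z]
    [AddCommGroup T] [Module k T] [FiniteDimensional k Z] (f : Z →ₗ[k] T)
    (hf : Function.Surjective f) :
    Module.finrank k (LinearMap.ker f) + Module.finrank k T = Module.finrank k Z := by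
  rw [← LinearMap.finrank_range_add_finrank_ker f, LinearMap.range_eq_top.mpr hf, finrank_top,
    add_comm]


theorem notMem_span_of_li {v₁ v₂ : Vec k r} (hv : LinearIndependent k ![v₁, v₂]) :
    v₁ ∉ Submodule.span k {v₂} ∧ v₂ ∉ Submodule.span k {v₁} := by
  rw [LinearIndependent.pair_iff] at hv
  constructor
  · intro h
    obtain ⟨t, ht⟩ := Submodule.mem_span_singleton.mp h
    have := (hv 1 (-t) (by rw [one_smul, neg_smul, ht, add_neg_cancel])).1
    exact one_ne_zero this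
  · intro h
    obtain ⟨t, ht⟩ := Submodule.mem_span_singleton.mp h
    have := (hv (-t) 1 (by rw [one_smul, neg_smul, ht, neg_add_cancel])).2
    exact one_ne_zero this

/-- assembling a preimage -/
theorem mem_range_of_construct (d : ℕ) (W₁ W₂ : Submodule k (Vec k r)) (v₁ v₂ : Vec k r)
    (a b : k) (φ : Module.Dual k W₁) (ψ : Module.Dual k W₂) (m₁ m₂ : Vec k r →ₗ[k] k)
    (hm₁ : m₁.comp W₁.subtype = φ) (hm₂ : m₂.comp W₂.subtype = ψ)
    (hG : ∃ G : Pol k r, G.IsHomogeneous d ∧ aeval v₁ G = a ∧ (∀ u ∈ W₁, DD v₁ G u = m₁ u) ∧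
      aeval v₂ G = b ∧ (∀ u ∈ W₂, DD v₂ G u = m₂ u)) :
    ((a, φ), (b, ψ)) ∈ LinearMap.range ((Smap k d W₁ v₁).prod (Smap k d W₂ v₂)) := by
  obtain ⟨G, hGh, hG1, hG2, hG3, hG4⟩ := hG
  refine ⟨⟨G, (mem_homogeneousSubmodule _ _).mpr hGh⟩, ?_⟩
  show (Smap k d W₁ v₁ _, Smap k d W₂ v₂ _) = _
  rw [Smap_apply, Smap_apply]
  refine Prod.ext (Prod.ext hG1 ?_) (Prod.ext hG3 ?_)
  · ext w
    show DD v₁ G w.1 = φ w
    rw [hG2 w.1 w.2, ← hm₁]; rfl
  · ext w
    show DD v₂ G w.1 = ψ w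
    rw [hG4 w.1 w.2, ← hm₂]; rfl

theorem main (k : Type u) [Field k] (r d : ℕ) (hd : 2 ≤ d)
    (W₁ W₂ : Submodule k (Fin (r + 1) → k)) (v₁ v₂ : Fin (r + 1) → k) (h₁ : v₁ ∈ W₁) (h₂ : v₂ ∈ W₂)
    (hv : LinearIndependent k ![v₁, v₂]) :
    ((3 ≤ d ∨ ¬ (v₂ ∈ W₁ ∧ v₁ ∈ W₂)) →
      Module.finrank k (LefPen.Form r k d) =
        Module.finrank k ↥(LefPen.tangentForms k d W₁ v₁ W₂ v₂) +
          (Module.finrank k ↥W₁ + Module.finrank k ↥W₂)) ∧
    ((d = 2 ∧ v₂ ∈ W₁ ∧ v₁ ∈ W₂) →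
      Module.finrank k (LefPen.Form r k d) + 1 =
        Module.finrank k ↥(LefPen.tangentForms k d W₁ v₁ W₂ v₂) +
          (Module.finrank k ↥W₁ + Module.finrank k ↥W₂)) := by
  haveI hfin : FiniteDimensional k (LefPen.Form r k d) :=
    Module.Finite.iff_fg.mpr (homogeneousSubmodule_fg _ _ _)
  set S : LefPen.Form r k d →ₗ[k] (k × Module.Dual k W₁) × (k × Module.Dual k W₂) :=
    (Smap k d W₁ v₁).prod (Smap k d W₂ v₂) with hS
  have hker : LinearMap.ker S = LefPen.tangentForms k d W₁ v₁ W₂ v₂ := by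
    rw [hS, LinearMap.ker_prod, ker_Smap, ker_Smap]; rfl
  have hrank := LinearMap.finrank_range_add_finrank_ker S
  rw [hker] at hrank
  obtain ⟨hv1, hv2⟩ := notMem_span_of_li hv
  obtain ⟨l₁, hl11, hl1⟩ := exists_dual _ v₁ hv1
  obtain ⟨l₂, hl22, hl2⟩ := exists_dual _ v₂ hv2
  have hl12 : l₁ v₂ = 0 := hl1 v₂ (Submodule.mem_span_singleton_self v₂)
  have hl21 : l₂ v₁ = 0 := hl2 v₁ (Submodule.mem_span_singleton_self v₁)
  have hZ : Module.finrank k ((k × Module.Dual k W₁) × (k × Module.Dual k W₂)) =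
      (1 + Module.finrank k W₁) + (1 + Module.finrank k W₂) := by
    simp [Module.finrank_prod, Subspace.dual_finrank_eq]
  have hSG : ∀ G : LefPen.Form r k d, S G =
      ((aeval v₁ G.1, W₁.subtype.dualMap (DD v₁ G.1)),
        (aeval v₂ G.1, W₂.subtype.dualMap (DD v₂ G.1))) := fun G => rfl
  have hGhom : ∀ G : LefPen.Form r k d, G.1.IsHomogeneous d :=
    fun G => (mem_homogeneousSubmodule _ _).mp G.2
  constructor
  · intro hA
    set Λ : (k × Module.Dual k W₁) × (k × Module.Dual k W₂) →ₗ[k] k × k :=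
      LinearMap.prodMap (Lam1 d W₁ ⟨v₁, h₁⟩) (Lam1 d W₂ ⟨v₂, h₂⟩) with hΛ
    have hΛsurj : Function.Surjective Λ := by
      rintro ⟨s, t⟩
      refine ⟨((0, s • (l₁.comp W₁.subtype)), (0, t • (l₂.comp W₂.subtype))), ?_⟩
      simp [Λ, hl11, hl22]
    have hrange : LinearMap.range S = LinearMap.ker Λ := by
      apply le_antisymm
      · rintro _ ⟨G, rfl⟩
        rw [LinearMap.mem_ker, hSG]
        simp [Λ, DD_self _ _ d (hGhom G)]
      · rintro ⟨⟨a, φ⟩, ⟨b, ψ⟩⟩ hz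
        rw [LinearMap.mem_ker] at hz
        simp only [Λ, LinearMap.prodMap_apply, Lam1_apply, Prod.mk_eq_zero, sub_eq_zero] at hz
        obtain ⟨m₁, hm₁⟩ := LinearMap.exists_extend φ
        obtain ⟨m₂, hm₂⟩ := LinearMap.exists_extend ψ
        have hm1v : m₁ v₁ = (d : k) * a := by rw [← hz.1, ← hm₁]; rfl
        have hm2v : m₂ v₂ = (d : k) * b := by rw [← hz.2, ← hm₂]; rfl
        apply mem_range_of_construct d W₁ W₂ v₁ v₂ a b φ ψ m₁ m₂ hm₁ hm₂
        by_cases h3 : 3 ≤ d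
        · obtain ⟨e, rfl⟩ : ∃ e, d = e + 3 := ⟨d - 3, by omega⟩
          obtain ⟨G, hG, g1, g2, g3, g4⟩ :=
            construct3 e v₁ v₂ l₁ l₂ m₁ m₂ a b hl11 hl12 hl21 hl22 hm1v hm2v
          exact ⟨G, hG, g1, fun u _ => g2 u, g3, fun u _ => g4 u⟩
        · have hnot : ¬ (v₂ ∈ W₁ ∧ v₁ ∈ W₂) := by
            rcases hA with h | h
            · exact absurd h h3
            · exact h
          have hd2 : d = 2 := by omega
          subst hd2
          have hm1v' : m₁ v₁ = 2 * a := by simpa using hm1v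
          have hm2v' : m₂ v₂ = 2 * b := by simpa using hm2v
          by_cases hvW : v₂ ∈ W₁
          · have hvW2 : v₁ ∉ W₂ := fun h => hnot ⟨hvW, h⟩
            obtain ⟨l₁', h11', hl1'⟩ := exists_dual W₂ v₁ hvW2
            exact construct2 W₁ W₂ v₁ v₂ l₁' l₂ m₁ m₂ a b (m₂ v₁) h11' (hl1' v₂ h₂) hl21 hl22
              hm1v' hm2v' (fun u _ => by simp) (fun u hu => by rw [hl1' u hu, zero_mul])
          · obtain ⟨l₂', h22', hl2'⟩ := exists_dual W₁ v₂ hvW
            exact construct2 W₁ W₂ v₁ v₂ l₁ l₂' m₁ m₂ a b (m₁ v₂) hl11 hl12 (hl2' v₁ h₁) h22'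
              hm1v' hm2v' (fun u hu => by rw [hl2' u hu, zero_mul]) (fun u _ => by simp)
    have hdim := finrank_ker_of_surjective Λ hΛsurj
    rw [← hrange, hZ] at hdim
    simp only [Module.finrank_prod, Module.finrank_self] at hdim
    omega
  · rintro ⟨hd2, hvW1, hvW2⟩
    subst hd2
    set Λ : (k × Module.Dual k W₁) × (k × Module.Dual k W₂) →ₗ[k] (k × k) × k :=
      LinearMap.prod (LinearMap.prodMap (Lam1 2 W₁ ⟨v₁, h₁⟩) (Lam1 2 W₂ ⟨v₂, h₂⟩))
        (((Module.Dual.eval k W₁ ⟨v₂, hvW1⟩).comp (LinearMap.snd k k _)).comp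
            (LinearMap.fst k _ _) -
          ((Module.Dual.eval k W₂ ⟨v₁, hvW2⟩).comp (LinearMap.snd k k _)).comp
            (LinearMap.snd k _ _)) with hΛ
    have hΛapp : ∀ a φ b ψ, Λ ((a, φ), (b, ψ)) =
        ((φ ⟨v₁, h₁⟩ - 2 * a, ψ ⟨v₂, h₂⟩ - 2 * b), φ ⟨v₂, hvW1⟩ - ψ ⟨v₁, hvW2⟩) := by
      intro a φ b ψ
      simp [Λ]
    have hΛsurj : Function.Surjective Λ := by
      rintro ⟨⟨s, t⟩, w⟩
      refine ⟨((0, s • (l₁.comp W₁.subtype) + w • (l₂.comp W₁.subtype)),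
        (0, t • (l₂.comp W₂.subtype))), ?_⟩
      rw [hΛapp]
      simp [hl11, hl22, hl12, hl21]
    have hrange : LinearMap.range S = LinearMap.ker Λ := by
      apply le_antisymm
      · rintro _ ⟨G, rfl⟩
        rw [LinearMap.mem_ker, hSG, hΛapp]
        simp [DD_self _ _ 2 (hGhom G), DD_symm v₁ v₂ _ (hGhom G)]
      · rintro ⟨⟨a, φ⟩, ⟨b, ψ⟩⟩ hz
        rw [LinearMap.mem_ker, hΛapp] at hz
        simp only [Prod.mk_eq_zero, sub_eq_zero] at hz
        obtain ⟨⟨hz1, hz2⟩, hz3⟩ := hz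
        obtain ⟨m₁, hm₁⟩ := LinearMap.exists_extend φ
        obtain ⟨m₂, hm₂⟩ := LinearMap.exists_extend ψ
        have hm1v : m₁ v₁ = 2 * a := by rw [← hz1, ← hm₁]; rfl
        have hm2v : m₂ v₂ = 2 * b := by rw [← hz2, ← hm₂]; rfl
        have hm12 : m₁ v₂ = φ ⟨v₂, hvW1⟩ := by rw [← hm₁]; rfl
        have hm21 : m₂ v₁ = ψ ⟨v₁, hvW2⟩ := by rw [← hm₂]; rfl
        apply mem_range_of_construct 2 W₁ W₂ v₁ v₂ a b φ ψ m₁ m₂ hm₁ hm₂
        exact construct2 W₁ W₂ v₁ v₂ l₁ l₂ m₁ m₂ a b (m₁ v₂) hl11 hl12 hl21 hl22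
          hm1v hm2v (fun u _ => by rw [hm21, hm12, hz3, sub_self, mul_zero])
          (fun u _ => by simp)
    have hdim := finrank_ker_of_surjective Λ hΛsurj
    rw [← hrange, hZ] at hdim
    simp only [Module.finrank_prod, Module.finrank_self] at hdim
    omega

end Groth.Agent.H5.LefT
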